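import Mathlib

/-!
# Base change property of quasi-coherent modules on "affine étale-like" sites: definitions

Abstract framework (Mathlib only) for proving that a quasi-coherent sheaf of modules `M` on a site
whose "affine" objects behave like affine schemes with flat transition maps satisfies
`M(E') = O(E') ⊗_{O(E)} M(E)` for morphisms `E' ⟶ E` between affine objects.
-/

set_option autoImplicit false
universe u v₁ u₁
open CategoryTheory Opposite Limits

namespace Groth.Agent.H32.QCBC

variable {C : Type u₁} [Category.{v₁} C]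

/-- Axioms of an "affine étale-like" site: a class `Aff` of objects such that all maps between
them are flat on functions, fibre products of affines are affine with tensor product rings,
affines are quasi-compact w.r.t. affine covers, and covering families are jointly surjective on
spectra. -/
structure AffSite (J : GrothendieckTopology C) (O : Cᵒᵖ ⥤ CommRingCat.{u}) (Aff : C → Prop) :
    Prop where
  flat : ∀ {V V' : C} (f : V' ⟶ V), Aff V → Aff V' → (O.map f.op).hom.Flat
  pb : ∀ {V Y F : C} (f : Y ⟶ V) (g : F ⟶ V), Aff V → Aff Y → Aff F →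
    ∃ (Z : C) (p₁ : Z ⟶ Y) (p₂ : Z ⟶ F), Aff Z ∧ IsPullback p₁ p₂ f g ∧
      IsPushout (O.map f.op) (O.map g.op) (O.map p₁.op) (O.map p₂.op)
  qc : ∀ (V : C), Aff V → ∀ S ∈ J V, ∃ (n : ℕ) (Y : Fin n → C) (f : ∀ a, Y a ⟶ V),
    (∀ a, Aff (Y a)) ∧ (∀ a, S.arrows (f a)) ∧ Sieve.ofArrows Y f ∈ J V
  surj : ∀ (V : C), Aff V → ∀ (n : ℕ) (Y : Fin n → C) (f : ∀ a, Y a ⟶ V), (∀ a, Aff (Y a)) →
    Sieve.ofArrows Y f ∈ J V → ∀ p : PrimeSpectrum (O.obj (op V)),
      ∃ a, p ∈ Set.range (PrimeSpectrum.comap (O.map (f a).op).hom)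

variable (O : Cᵒᵖ ⥤ CommRingCat.{u})
  (M : PresheafOfModules.{u} (O ⋙ forget₂ CommRingCat RingCat))

/-- The base change property of `M` along `g : E' ⟶ E`, in universal-property form:
`M(E) ⟶ M(E')` is the universal `O(g)`-semilinear map to an `O(E')`-module. -/
def IsBC {E E' : C} (g : E' ⟶ E) : Prop :=
  ∀ (P : Type u) [AddCommGroup P] [Module (O.obj (op E')) P] (ψ : M.obj (op E) →+ P),
    (∀ (a : O.obj (op E)) (s : M.obj (op E)), ψ (a • s) = O.map g.op a • ψ s) →
    ∃! ψ' : M.obj (op E') →ₗ[O.obj (op E')] P, ∀ s, ψ' (M.map g.op s) = ψ s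

/-- An elementary local presentation of `M` over `W`: generators `s i ∈ M(W)` and a relation
matrix `a k i ∈ O(W)` (locally finitely supported in `i`), such that the `s i` generate `M`
locally on every object over `W` and every relation between them is locally a combination of the
given relations. -/
structure ElemPres (J : GrothendieckTopology C) (W : C) where
  I : Type u
  K : Type u
  s : I → M.obj (op W)
  a : K → I → O.obj (op W)
  lf : ∀ k, ∃ S ∈ J W, ∀ ⦃V : C⦄ (f : V ⟶ W), S.arrows f →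
    {i | O.map f.op (a k i) ≠ 0}.Finite
  rel : ∀ (k : K) ⦃V : C⦄ (f : V ⟶ W) (hfin : {i | O.map f.op (a k i) ≠ 0}.Finite),
    ∑ i ∈ hfin.toFinset, O.map f.op (a k i) • M.map f.op (s i) = 0
  gen : ∀ ⦃V : C⦄ (v : V ⟶ W) (t : M.obj (op V)), ∃ S ∈ J V, ∀ ⦃V' : C⦄ (f : V' ⟶ V),
    S.arrows f → ∃ c : I →₀ O.obj (op V'),
      M.map f.op t = c.sum fun i r => r • M.map (f ≫ v).op (s i)
  relgen : ∀ ⦃V : C⦄ (v : V ⟶ W) (c : I →₀ O.obj (op V)),
    (c.sum fun i r => r • M.map v.op (s i)) = 0 →
    ∃ S ∈ J V, ∀ ⦃V' : C⦄ (f : V' ⟶ V), S.arrows f → ∃ d : K →₀ O.obj (op V'),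
      ∀ i, O.map f.op (c i) = d.sum fun k r => r * O.map (f ≫ v).op (a k i)

end Groth.Agent.H32.QCBC
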