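import Groth.Agent.H32.QCBC.SheafLemmas
import Groth.Agent.H75.QCBC_ALG4

/-! helper32: conversion between the universal-property form `IsBC` and Mathlib's
`IsBaseChange`. -/

set_option autoImplicit false
universe v₁ u₁
open CategoryTheory Opposite Limits TensorProduct

namespace Groth.Agent.H32.QCBC

variable {C : Type u₁} [Category.{v₁} C]
  {O : Cᵒᵖ ⥤ CommRingCat.{max v₁ u₁}}
  {M : PresheafOfModules.{max v₁ u₁} (O ⋙ forget₂ CommRingCat RingCat)}

theorem isBaseChange_of_isBC {X X' : C} (q : X' ⟶ X) (hq : IsBC O M q)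
    [Algebra (O.obj (op X)) (O.obj (op X'))]
    (halg : algebraMap (O.obj (op X)) (O.obj (op X')) = (O.map q.op).hom)
    [Module (O.obj (op X)) (M.obj (op X'))]
    [IsScalarTower (O.obj (op X)) (O.obj (op X')) (M.obj (op X'))]
    (ρ : M.obj (op X) →ₗ[O.obj (op X)] M.obj (op X')) (hρ : ∀ m, ρ m = res O M q m) :
    IsBaseChange (O.obj (op X')) ρ := by
  let ψ₀ : M.obj (op X) →+ (O.obj (op X')) ⊗[O.obj (op X)] (M.obj (op X)) :=
    (TensorProduct.mk (O.obj (op X)) (O.obj (op X')) (M.obj (op X)) 1).toAddMonoidHom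
  have hsemi : ∀ (a : O.obj (op X)) (s : M.obj (op X)), ψ₀ (a • s) = O.map q.op a • ψ₀ s := by
    intro a s
    change (1 : O.obj (op X')) ⊗ₜ[O.obj (op X)] (a • s) = O.map q.op a • ((1 : O.obj (op X')) ⊗ₜ s)
    rw [← TensorProduct.smul_tmul, TensorProduct.smul_tmul', smul_eq_mul, mul_one,
      Algebra.smul_def, mul_one, halg]
  obtain ⟨ψ', hψ', -⟩ := hq _ ψ₀ hsemi
  let θ : (O.obj (op X')) ⊗[O.obj (op X)] (M.obj (op X)) →ₗ[O.obj (op X')] M.obj (op X') :=
    ρ.liftBaseChange (O.obj (op X'))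
  have hsemi2 : ∀ (a : O.obj (op X)) (s : M.obj (op X)),
      (res O M q) (a • s) = O.map q.op a • (res O M q) s := fun a s => res_smul O M q a s
  obtain ⟨φ, -, hφuniq⟩ := hq _ (res O M q) hsemi2
  have h1 : θ ∘ₗ ψ' = LinearMap.id := by
    have e1 : θ ∘ₗ ψ' = φ := hφuniq _ (fun s => by
      change θ (ψ' (M.map q.op s)) = _
      rw [hψ']
      change θ ((1 : O.obj (op X')) ⊗ₜ s) = _
      rw [LinearMap.liftBaseChange_tmul, one_smul, hρ])
    have e2 : LinearMap.id = φ := hφuniq _ (fun s => rfl)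
    rw [e1, e2]
  have h2 : ψ' ∘ₗ θ = LinearMap.id := by
    apply TensorProduct.AlgebraTensorModule.ext
    intro b m
    change ψ' (θ (b ⊗ₜ m)) = b ⊗ₜ m
    rw [LinearMap.liftBaseChange_tmul, map_smul, hρ]
    have : ψ' (res O M q m) = (1 : O.obj (op X')) ⊗ₜ m := hψ' m
    rw [this, TensorProduct.smul_tmul', smul_eq_mul, mul_one]
  exact IsBaseChange.of_equiv (LinearEquiv.ofLinear θ ψ' h1 h2) (fun m => by
    change θ ((1 : O.obj (op X')) ⊗ₜ m) = ρ m
    rw [LinearMap.liftBaseChange_tmul, one_smul])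

end Groth.Agent.H32.QCBC

namespace Groth.Agent.H32.QCBC

variable {C : Type u₁} [Category.{v₁} C]
  {O : Cᵒᵖ ⥤ CommRingCat.{max v₁ u₁}}
  {M : PresheafOfModules.{max v₁ u₁} (O ⋙ forget₂ CommRingCat RingCat)}

theorem O_map_square {E F X X' : C} {g : F ⟶ E} {x : X ⟶ E} {x' : X' ⟶ F} {q : X' ⟶ X}
    (w : q ≫ x = x' ≫ g) (a : O.obj (op E)) :
    O.map q.op (O.map x.op a) = O.map x'.op (O.map g.op a) := by
  rw [← O_map_comp, ← O_map_comp, w]

set_option maxHeartbeats 800000 in
theorem isBaseChange_of_square {E F X X' : C} (g : F ⟶ E) (x : X ⟶ E) (x' : X' ⟶ F)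
    (q : X' ⟶ X) (w : q ≫ x = x' ≫ g)
    (hpo : IsPushout (O.map x.op) (O.map g.op) (O.map q.op) (O.map x'.op)) (hq : IsBC O M q)
    [Algebra (O.obj (op E)) (O.obj (op F))]
    (halg : algebraMap (O.obj (op E)) (O.obj (op F)) = (O.map g.op).hom)
    [Module (O.obj (op E)) (M.obj (op X))]
    (hmX : ∀ (a : O.obj (op E)) (m : M.obj (op X)), a • m = O.map x.op a • m)
    [Module (O.obj (op E)) (M.obj (op X'))] [Module (O.obj (op F)) (M.obj (op X'))]
    [IsScalarTower (O.obj (op E)) (O.obj (op F)) (M.obj (op X'))]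
    (hmX' : ∀ (a' : O.obj (op F)) (m : M.obj (op X')), a' • m = O.map x'.op a' • m)
    (ρ : M.obj (op X) →ₗ[O.obj (op E)] M.obj (op X')) (hρ : ∀ m, ρ m = res O M q m) :
    IsBaseChange (O.obj (op F)) ρ := by
  letI algAB : Algebra (O.obj (op E)) (O.obj (op X)) := (O.map x.op).hom.toAlgebra
  letI algA'B' : Algebra (O.obj (op F)) (O.obj (op X')) := (O.map x'.op).hom.toAlgebra
  letI algBB' : Algebra (O.obj (op X)) (O.obj (op X')) := (O.map q.op).hom.toAlgebra
  letI algAB' : Algebra (O.obj (op E)) (O.obj (op X')) :=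
    ((O.map q.op).hom.comp (O.map x.op).hom).toAlgebra
  haveI st1 : IsScalarTower (O.obj (op E)) (O.obj (op X)) (O.obj (op X')) :=
    IsScalarTower.of_algebraMap_eq (fun a => rfl)
  haveI st2 : IsScalarTower (O.obj (op E)) (O.obj (op F)) (O.obj (op X')) :=
    IsScalarTower.of_algebraMap_eq (fun a => by
      change O.map q.op (O.map x.op a) = O.map x'.op (algebraMap _ _ a)
      rw [halg]
      exact O_map_square w a)
  haveI po : Algebra.IsPushout (O.obj (op E)) (O.obj (op F)) (O.obj (op X)) (O.obj (op X')) := by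
    rw [← CommRingCat.isPushout_iff_isPushout]
    have h1 : CommRingCat.ofHom (algebraMap (O.obj (op E)) (O.obj (op F))) = O.map g.op := by
      rw [halg]; rfl
    rw [h1]
    exact hpo.flip
  letI mBN' : Module (O.obj (op X)) (M.obj (op X')) := Module.compHom _ (O.map q.op).hom
  haveI st3 : IsScalarTower (O.obj (op X)) (O.obj (op X')) (M.obj (op X')) :=
    IsScalarTower.of_algebraMap_smul (fun _ _ => rfl)
  haveI st4 : IsScalarTower (O.obj (op E)) (O.obj (op X)) (M.obj (op X)) :=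
    ⟨fun a b n => by
      rw [Algebra.smul_def, mul_smul, hmX]
      rfl⟩
  haveI st5 : IsScalarTower (O.obj (op F)) (O.obj (op X')) (M.obj (op X')) :=
    ⟨fun a b n => by
      rw [Algebra.smul_def, mul_smul, hmX']
      rfl⟩
  have hAN' : ∀ (a : O.obj (op E)) (n : M.obj (op X')),
      a • n = O.map x'.op (O.map g.op a) • n := by
    intro a n
    rw [← algebraMap_smul (O.obj (op F)) a n, hmX', halg]
  haveI st6 : IsScalarTower (O.obj (op E)) (O.obj (op X)) (M.obj (op X')) :=
    ⟨fun a b n => by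
      rw [hAN']
      change (O.map q.op (a • b)) • n = _ • (O.map q.op b • n)
      rw [Algebra.smul_def, map_mul, mul_smul]
      congr 1
      exact O_map_square w a⟩
  let ρB : M.obj (op X) →ₗ[O.obj (op X)] M.obj (op X') :=
    { toFun := res O M q
      map_add' := map_add _
      map_smul' := fun b m => res_smul O M q b m }
  have hρB : IsBaseChange (O.obj (op X')) ρB :=
    isBaseChange_of_isBC q hq rfl ρB (fun _ => rfl)
  have key := Groth.Agent.H75.QCBC_ALG4.isBaseChange_of_isPushout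
    (A := O.obj (op E)) (A' := O.obj (op F)) ρB hρB
  have e : ρ = ρB.restrictScalars (O.obj (op E)) := LinearMap.ext hρ
  rw [e]
  exact key

end Groth.Agent.H32.QCBC
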