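import Groth.Agent.H32.QCBC.EtSite
import Groth.Agent.H26.QCBC_UL

/-! helper32: the small étale site of a sheaf `X` over `S` with its affine objects is an
`AffSite`. -/

set_option autoImplicit false
set_option backward.isDefEq.respectTransparency false
universe u
open CategoryTheory CategoryTheory.Limits AlgebraicGeometry Opposite

namespace Groth.Agent.H32.QCBC
open AlgSp Groth.Agent.H26.QCBC_UL

variable {S : Scheme.{u}} {X : AlgSp.Sp S}

theorem pb_etOver {V Y F : EtOver X} (f : Y ⟶ V) (g : F ⟶ V) (hV : IsAffine V.obj.left.left)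
    (hY : IsAffine Y.obj.left.left) (hF : IsAffine F.obj.left.left) :
    ∃ (Z : EtOver X) (p₁ : Z ⟶ Y) (p₂ : Z ⟶ F), IsAffine Z.obj.left.left ∧
      IsPullback p₁ p₂ f g ∧
      IsPushout ((OEt X).obj.map f.op) ((OEt X).obj.map g.op) ((OEt X).obj.map p₁.op)
        ((OEt X).obj.map p₂.op) := by
  have hpb := EtOver.isPullback f g
  have hsch : IsPullback (EtOver.pullbackFst f g).hom.left.left
      (EtOver.pullbackSnd f g).hom.left.left f.hom.left.left g.hom.left.left :=
    hpb.map (EtOver.toScheme X)
  have hZ : IsAffine (EtOver.pullbackObj f g).obj.left.left := IsAffine.of_isPullback hsch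
  have hpo := isPushout_appTop_of_isPullback hsch
  exact ⟨_, _, _, hZ, hpb, isPushout_ulift.{u, u + 1} _ _ _ _ hpo⟩

theorem affSite_etOver (X : AlgSp.Sp S) :
    AffSite (AlgSp.etTop X) (AlgSp.OEt X).obj
      (fun E : AlgSp.EtOver X => IsAffine E.obj.left.left) where
  flat f hV hV' := flat_OEt_map f hV hV'
  pb f g hV hY hF := pb_etOver f g hV hY hF
  qc V hV R hR := qc_etOver V hV R hR
  surj V hV n Y f _ hcov p := surj_etOver V hV n Y f hcov p

end Groth.Agent.H32.QCBC
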