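import Groth.Agent.H32.QCBC.BCConv
import Groth.Agent.H33.QCBC_ALG3
import Groth.Agent.H75.QCBC_PI

/-! helper32: the base change property is local on affine objects (flat base change of the
sheaf equalizer). -/

set_option autoImplicit false
universe v₁ u₁
open CategoryTheory Opposite Limits TensorProduct

namespace Groth.Agent.H32.QCBC

variable {C : Type u₁} [Category.{v₁} C] {J : GrothendieckTopology C}
  {O : Cᵒᵖ ⥤ CommRingCat.{max v₁ u₁}}
  {M : PresheafOfModules.{max v₁ u₁} (O ⋙ forget₂ CommRingCat RingCat)} {Aff : C → Prop}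

theorem isBC_of_isBaseChange {X X' : C} (q : X' ⟶ X)
    [Algebra (O.obj (op X)) (O.obj (op X'))]
    (halg : algebraMap (O.obj (op X)) (O.obj (op X')) = (O.map q.op).hom)
    [Module (O.obj (op X)) (M.obj (op X'))]
    [IsScalarTower (O.obj (op X)) (O.obj (op X')) (M.obj (op X'))]
    (ρ : M.obj (op X) →ₗ[O.obj (op X)] M.obj (op X')) (hρ : ∀ m, ρ m = res O M q m)
    (hbc : IsBaseChange (O.obj (op X')) ρ) : IsBC O M q := by
  intro Q _ _ ψ hψ
  letI : Module (O.obj (op X)) Q := Module.compHom Q (algebraMap (O.obj (op X)) (O.obj (op X')))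
  haveI : IsScalarTower (O.obj (op X)) (O.obj (op X')) Q :=
    IsScalarTower.of_algebraMap_smul (fun _ _ => rfl)
  let ψL : M.obj (op X) →ₗ[O.obj (op X)] Q :=
    { toFun := ψ
      map_add' := map_add ψ
      map_smul' := fun a s => by
        rw [hψ]
        change _ = algebraMap (O.obj (op X)) (O.obj (op X')) a • ψ s
        rw [halg] }
  refine ⟨hbc.lift ψL, fun s => ?_, fun ψ'' hψ'' => ?_⟩
  · have := hbc.lift_eq ψL s
    rw [hρ] at this
    exact this
  · refine hbc.algHom_ext _ _ (fun s => ?_)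
    rw [hbc.lift_eq, hρ]
    exact hψ'' s

/-- restriction as a linear map over a ring acting through ring homomorphisms. -/
noncomputable def resLin {R : Type*} [CommRing R] {X X' : C} (q : X' ⟶ X)
    [Module R (M.obj (op X))] [Module R (M.obj (op X'))]
    (φ : R →+* O.obj (op X)) (φ' : R →+* O.obj (op X'))
    (hφ : ∀ (r : R) (m : M.obj (op X)), r • m = φ r • m)
    (hφ' : ∀ (r : R) (m : M.obj (op X')), r • m = φ' r • m)
    (hcomp : ∀ r, O.map q.op (φ r) = φ' r) : M.obj (op X) →ₗ[R] M.obj (op X') :=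
  { toFun := res O M q
    map_add' := map_add _
    map_smul' := fun r m => by
      rw [hφ, res_smul, hcomp, ← hφ']
      rfl }

theorem resLin_apply {R : Type*} [CommRing R] {X X' : C} (q : X' ⟶ X)
    [Module R (M.obj (op X))] [Module R (M.obj (op X'))]
    (φ : R →+* O.obj (op X)) (φ' : R →+* O.obj (op X'))
    (hφ : ∀ (r : R) (m : M.obj (op X)), r • m = φ r • m)
    (hφ' : ∀ (r : R) (m : M.obj (op X')), r • m = φ' r • m)
    (hcomp : ∀ r, O.map q.op (φ r) = φ' r) (m : M.obj (op X)) :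
    resLin q φ φ' hφ hφ' hcomp m = res O M q m := rfl

set_option maxHeartbeats 3200000 in
/-- (C) the base change property is local on affine objects. -/
theorem isBC_of_cover (h : AffSite J O Aff) (hM : Presheaf.IsSheaf J M.presheaf)
    {E F : C} (g : F ⟶ E) (hE : Aff E) (hF : Aff F)
    {n : ℕ} (Y : Fin n → C) (f : ∀ a, Y a ⟶ E) (hY : ∀ a, Aff (Y a))
    (hcov : Sieve.ofArrows Y f ∈ J E)
    (hloc : ∀ (a : Fin n) ⦃V V' : C⦄ (_ : V ⟶ Y a) (g' : V' ⟶ V), Aff V → Aff V' → IsBC O M g') :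
    IsBC O M g := by
  choose Fa qa ra hFa hpbF hpoF using fun a => h.pb (f a) g hE (hY a) hF
  choose Z p₁ p₂ hZ hpbZ hpoZ using fun a b => h.pb (f a) (f b) hE (hY a) (hY b)
  choose FZ s r hFZ hpbFZ hpoFZ using fun a b => h.pb (p₁ a b ≫ f a) g hE (hZ a b) hF
  have hw2 : ∀ a b, p₁ a b ≫ f a = p₂ a b ≫ f b := fun a b => (hpbZ a b).w
  let π₁ : ∀ a b, FZ a b ⟶ Fa a := fun a b =>
    (hpbF a).lift (s a b ≫ p₁ a b) (r a b) (by rw [Category.assoc]; exact (hpbFZ a b).w)
  let π₂ : ∀ a b, FZ a b ⟶ Fa b := fun a b =>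
    (hpbF b).lift (s a b ≫ p₂ a b) (r a b) (by
      rw [Category.assoc, ← hw2]; exact (hpbFZ a b).w)
  have hπ₁q : ∀ a b, π₁ a b ≫ qa a = s a b ≫ p₁ a b := fun a b => (hpbF a).lift_fst _ _ _
  have hπ₁r : ∀ a b, π₁ a b ≫ ra a = r a b := fun a b => (hpbF a).lift_snd _ _ _
  have hπ₂q : ∀ a b, π₂ a b ≫ qa b = s a b ≫ p₂ a b := fun a b => (hpbF b).lift_fst _ _ _
  have hπ₂r : ∀ a b, π₂ a b ≫ ra b = r a b := fun a b => (hpbF b).lift_snd _ _ _
  have hcovF : Sieve.ofArrows Fa ra ∈ J F := ofArrows_pullback_mem g Y f hcov Fa qa ra hpbF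
  -- instances
  letI algAA' : Algebra (O.obj (op E)) (O.obj (op F)) := (O.map g.op).hom.toAlgebra
  haveI flatAA' : Module.Flat (O.obj (op E)) (O.obj (op F)) := h.flat g hE hF
  letI mY : ∀ a, Module (O.obj (op E)) (M.obj (op (Y a))) :=
    fun a => Module.compHom _ (O.map (f a).op).hom
  letI mZ : ∀ ab : Fin n × Fin n, Module (O.obj (op E)) (M.obj (op (Z ab.1 ab.2))) :=
    fun ab => Module.compHom _ (O.map (p₁ ab.1 ab.2 ≫ f ab.1).op).hom
  letI mFA : Module (O.obj (op E)) (M.obj (op F)) := Module.compHom _ (O.map g.op).hom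
  haveI stF : IsScalarTower (O.obj (op E)) (O.obj (op F)) (M.obj (op F)) :=
    IsScalarTower.of_algebraMap_smul (fun _ _ => rfl)
  letI mFa' : ∀ a, Module (O.obj (op F)) (M.obj (op (Fa a))) :=
    fun a => Module.compHom _ (O.map (ra a).op).hom
  letI mFa : ∀ a, Module (O.obj (op E)) (M.obj (op (Fa a))) :=
    fun a => Module.compHom _ ((O.map (ra a).op).hom.comp (O.map g.op).hom)
  haveI stFa : ∀ a, IsScalarTower (O.obj (op E)) (O.obj (op F)) (M.obj (op (Fa a))) :=
    fun a => IsScalarTower.of_algebraMap_smul (fun _ _ => rfl)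
  letI mFZ' : ∀ ab : Fin n × Fin n, Module (O.obj (op F)) (M.obj (op (FZ ab.1 ab.2))) :=
    fun ab => Module.compHom _ (O.map (r ab.1 ab.2).op).hom
  letI mFZ : ∀ ab : Fin n × Fin n, Module (O.obj (op E)) (M.obj (op (FZ ab.1 ab.2))) :=
    fun ab => Module.compHom _ ((O.map (r ab.1 ab.2).op).hom.comp (O.map g.op).hom)
  haveI stFZ : ∀ ab : Fin n × Fin n,
      IsScalarTower (O.obj (op E)) (O.obj (op F)) (M.obj (op (FZ ab.1 ab.2))) :=
    fun ab => IsScalarTower.of_algebraMap_smul (fun _ _ => rfl)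
  -- linear maps
  let i : M.obj (op E) →ₗ[O.obj (op E)] (∀ a, M.obj (op (Y a))) :=
    LinearMap.pi (fun a => resLin (f a) (RingHom.id _) (O.map (f a).op).hom
      (fun _ _ => rfl) (fun _ _ => rfl) (fun _ => rfl))
  let d : (∀ a, M.obj (op (Y a))) →ₗ[O.obj (op E)] (∀ ab : Fin n × Fin n, M.obj (op (Z ab.1 ab.2))) :=
    LinearMap.pi (fun ab =>
      (resLin (p₁ ab.1 ab.2) (O.map (f ab.1).op).hom (O.map (p₁ ab.1 ab.2 ≫ f ab.1).op).hom
        (fun _ _ => rfl) (fun _ _ => rfl) (fun x => (O_map_comp O _ _ x).symm)).comp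
          (LinearMap.proj ab.1) -
      (resLin (p₂ ab.1 ab.2) (O.map (f ab.2).op).hom (O.map (p₁ ab.1 ab.2 ≫ f ab.1).op).hom
        (fun _ _ => rfl) (fun _ _ => rfl) (fun x => by
          rw [hw2]; exact (O_map_comp O _ _ x).symm)).comp (LinearMap.proj ab.2))
  let i' : M.obj (op F) →ₗ[O.obj (op F)] (∀ a, M.obj (op (Fa a))) :=
    LinearMap.pi (fun a => resLin (ra a) (RingHom.id _) (O.map (ra a).op).hom
      (fun _ _ => rfl) (fun _ _ => rfl) (fun _ => rfl))
  let d' : (∀ a, M.obj (op (Fa a))) →ₗ[O.obj (op F)]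
      (∀ ab : Fin n × Fin n, M.obj (op (FZ ab.1 ab.2))) :=
    LinearMap.pi (fun ab =>
      (resLin (π₁ ab.1 ab.2) (O.map (ra ab.1).op).hom (O.map (r ab.1 ab.2).op).hom
        (fun _ _ => rfl) (fun _ _ => rfl) (fun x => by
          rw [← O_map_comp, hπ₁r])).comp (LinearMap.proj ab.1) -
      (resLin (π₂ ab.1 ab.2) (O.map (ra ab.2).op).hom (O.map (r ab.1 ab.2).op).hom
        (fun _ _ => rfl) (fun _ _ => rfl) (fun x => by
          rw [← O_map_comp, hπ₂r])).comp (LinearMap.proj ab.2))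
  let ρ : M.obj (op E) →ₗ[O.obj (op E)] M.obj (op F) :=
    resLin g (RingHom.id _) (O.map g.op).hom (fun _ _ => rfl) (fun _ _ => rfl) (fun _ => rfl)
  let ρ₁c : ∀ a, M.obj (op (Y a)) →ₗ[O.obj (op E)] M.obj (op (Fa a)) := fun a =>
    resLin (qa a) (O.map (f a).op).hom ((O.map (ra a).op).hom.comp (O.map g.op).hom)
      (fun _ _ => rfl) (fun _ _ => rfl) (fun x => O_map_square (hpbF a).w x)
  let ρ₂c : ∀ ab : Fin n × Fin n,
      M.obj (op (Z ab.1 ab.2)) →ₗ[O.obj (op E)] M.obj (op (FZ ab.1 ab.2)) := fun ab =>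
    resLin (s ab.1 ab.2) (O.map (p₁ ab.1 ab.2 ≫ f ab.1).op).hom
      ((O.map (r ab.1 ab.2).op).hom.comp (O.map g.op).hom)
      (fun _ _ => rfl) (fun _ _ => rfl) (fun x => O_map_square (hpbFZ ab.1 ab.2).w x)
  -- exactness
  have hi : Function.Injective i := by
    intro m m' hmm
    refine M_sep O M hM _ hcov _ _ ?_
    intro V' k hk
    obtain ⟨a, l, rfl⟩ := (Sieve.mem_ofArrows_iff Y f k).1 hk
    change res O M (l ≫ f a) m = res O M (l ≫ f a) m'
    rw [res_comp, res_comp]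
    congr 1
    exact congrFun hmm a
  have hex : Function.Exact i d := by
    intro t
    constructor
    · intro ht
      have ht' : ∀ a b, res O M (p₁ a b) (t a) = res O M (p₂ a b) (t b) := fun a b =>
        sub_eq_zero.1 (congrFun ht (a, b))
      obtain ⟨t₀, ht₀⟩ := M_glue' O M hM Y f hcov Z p₁ p₂
        (fun a b T ga gb hab => ⟨(hpbZ a b).lift ga gb hab, (hpbZ a b).lift_fst _ _ _,
          (hpbZ a b).lift_snd _ _ _⟩) t ht'
      exact ⟨t₀, funext ht₀⟩
    · rintro ⟨m, rfl⟩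
      funext ab
      change res O M (p₁ ab.1 ab.2) (res O M (f ab.1) m) -
        res O M (p₂ ab.1 ab.2) (res O M (f ab.2) m) = 0
      rw [← res_comp, ← res_comp, hw2, sub_self]
  have hi' : Function.Injective i' := by
    intro m m' hmm
    refine M_sep O M hM _ hcovF _ _ ?_
    intro V' k hk
    obtain ⟨a, l, rfl⟩ := (Sieve.mem_ofArrows_iff Fa ra k).1 hk
    change res O M (l ≫ ra a) m = res O M (l ≫ ra a) m'
    rw [res_comp, res_comp]
    congr 1
    exact congrFun hmm a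
  have hex' : Function.Exact i' d' := by
    intro t
    constructor
    · intro ht
      have ht' : ∀ a b, res O M (π₁ a b) (t a) = res O M (π₂ a b) (t b) := fun a b =>
        sub_eq_zero.1 (congrFun ht (a, b))
      obtain ⟨t₀, ht₀⟩ := M_glue' O M hM Fa ra hcovF FZ π₁ π₂ (by
        intro a b T ga gb hab
        have e1 : (ga ≫ qa a) ≫ f a = (gb ≫ qa b) ≫ f b := by
          rw [Category.assoc, Category.assoc, (hpbF a).w, (hpbF b).w, ← Category.assoc,
            ← Category.assoc, hab]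
        let lZ : T ⟶ Z a b := (hpbZ a b).lift (ga ≫ qa a) (gb ≫ qa b) e1
        have hlZ1 : lZ ≫ p₁ a b = ga ≫ qa a := (hpbZ a b).lift_fst _ _ _
        have hlZ2 : lZ ≫ p₂ a b = gb ≫ qa b := (hpbZ a b).lift_snd _ _ _
        have e2 : lZ ≫ p₁ a b ≫ f a = (ga ≫ ra a) ≫ g := by
          rw [← Category.assoc, hlZ1, Category.assoc, (hpbF a).w, Category.assoc]
        let l : T ⟶ FZ a b := (hpbFZ a b).lift lZ (ga ≫ ra a) e2
        have hl1 : l ≫ s a b = lZ := (hpbFZ a b).lift_fst _ _ _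
        have hl2 : l ≫ r a b = ga ≫ ra a := (hpbFZ a b).lift_snd _ _ _
        refine ⟨l, ?_, ?_⟩
        · apply (hpbF a).hom_ext
          · rw [Category.assoc, hπ₁q, ← Category.assoc, hl1, hlZ1]
          · rw [Category.assoc, hπ₁r, hl2]
        · apply (hpbF b).hom_ext
          · rw [Category.assoc, hπ₂q, ← Category.assoc, hl1, hlZ2]
          · rw [Category.assoc, hπ₂r, hl2, hab]) t ht'
      exact ⟨t₀, funext ht₀⟩
    · rintro ⟨m, rfl⟩
      funext ab
      change res O M (π₁ ab.1 ab.2) (res O M (ra ab.1) m) -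
        res O M (π₂ ab.1 ab.2) (res O M (ra ab.2) m) = 0
      rw [← res_comp, ← res_comp, hπ₁r, hπ₂r, sub_self]
  -- commutation
  have h1 : ∀ x, i' (ρ x) = (LinearMap.pi fun a => (ρ₁c a).comp (LinearMap.proj a)) (i x) := by
    intro x
    funext a
    change res O M (ra a) (res O M g x) = res O M (qa a) (res O M (f a) x)
    rw [← res_comp, ← res_comp, (hpbF a).w]
  have h2 : ∀ x, d' ((LinearMap.pi fun a => (ρ₁c a).comp (LinearMap.proj a)) x) =
      (LinearMap.pi fun ab => (ρ₂c ab).comp (LinearMap.proj ab)) (d x) := by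
    intro x
    funext ab
    change res O M (π₁ ab.1 ab.2) (res O M (qa ab.1) (x ab.1)) -
        res O M (π₂ ab.1 ab.2) (res O M (qa ab.2) (x ab.2)) =
      res O M (s ab.1 ab.2) (res O M (p₁ ab.1 ab.2) (x ab.1) - res O M (p₂ ab.1 ab.2) (x ab.2))
    rw [map_sub, ← res_comp, ← res_comp, ← res_comp, ← res_comp, hπ₁q, hπ₂q]
  -- base change
  have hρ₁ : IsBaseChange (O.obj (op F))
      (LinearMap.pi fun a => (ρ₁c a).comp (LinearMap.proj a)) :=
    Groth.Agent.H75.QCBC_PI.isBaseChange_pi (fun a => M.obj (op (Y a)))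
      (fun a => M.obj (op (Fa a))) ρ₁c (fun a =>
        isBaseChange_of_square g (f a) (ra a) (qa a) (hpbF a).w (hpoF a)
          (hloc a (𝟙 _) (qa a) (hY a) (hFa a)) rfl (fun _ _ => rfl) (fun _ _ => rfl)
          (ρ₁c a) (fun _ => rfl))
  have hρ₂ : IsBaseChange (O.obj (op F))
      (LinearMap.pi fun ab => (ρ₂c ab).comp (LinearMap.proj ab)) :=
    Groth.Agent.H75.QCBC_PI.isBaseChange_pi (fun ab : Fin n × Fin n => M.obj (op (Z ab.1 ab.2)))
      (fun ab => M.obj (op (FZ ab.1 ab.2))) ρ₂c (fun ab =>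
        isBaseChange_of_square g (p₁ ab.1 ab.2 ≫ f ab.1) (r ab.1 ab.2) (s ab.1 ab.2)
          (hpbFZ ab.1 ab.2).w (hpoFZ ab.1 ab.2)
          (hloc ab.1 (p₁ ab.1 ab.2) (s ab.1 ab.2) (hZ ab.1 ab.2) (hFZ ab.1 ab.2)) rfl
          (fun _ _ => rfl) (fun _ _ => rfl) (ρ₂c ab) (fun _ => rfl))
  have hbc : IsBaseChange (O.obj (op F)) ρ :=
    Groth.Agent.H33.QCBC_ALG3.isBaseChange_of_exact i d hi hex i' d' hi' hex' ρ _ _ h1 h2 hρ₁ hρ₂
  exact isBC_of_isBaseChange g rfl ρ (fun _ => rfl) hbc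

end Groth.Agent.H32.QCBC
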