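import Groth.Agent.H32.QCBC.Defs

/-! helper32: from the universal-property form `IsBC` to Mathlib's `IsBaseChange` over rings
identified with the section rings through ring isomorphisms (e.g. un-`ULift`ed). -/

set_option autoImplicit false
universe v₁ u₁ u w
open CategoryTheory Opposite Limits TensorProduct

namespace Groth.Agent.H32.QCBC

variable {C : Type u₁} [Category.{v₁} C]
  {O : Cᵒᵖ ⥤ CommRingCat.{max u w}}
  {M : PresheafOfModules.{max u w} (O ⋙ forget₂ CommRingCat RingCat)}

/-- restriction as an additive map (generic universes). -/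
noncomputable def resG (O : Cᵒᵖ ⥤ CommRingCat.{u})
    (M : PresheafOfModules.{u} (O ⋙ forget₂ CommRingCat RingCat)) {V V' : C} (g : V' ⟶ V) :
    M.obj (op V) →+ M.obj (op V') where
  toFun t := M.map g.op t
  map_zero' := (M.map g.op).hom.map_zero
  map_add' := (M.map g.op).hom.map_add

theorem resG_smul (O : Cᵒᵖ ⥤ CommRingCat.{u})
    (M : PresheafOfModules.{u} (O ⋙ forget₂ CommRingCat RingCat)) {V V' : C} (g : V' ⟶ V)
    (r : O.obj (op V)) (t : M.obj (op V)) :
    resG O M g (r • t) = O.map g.op r • resG O M g t :=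
  PresheafOfModules.map_smul M g.op r t

set_option maxHeartbeats 800000 in
theorem isBaseChange_of_isBC_equiv {X X' : C} (q : X' ⟶ X) (hq : IsBC O M q)
    {A B : Type w} [CommRing A] [CommRing B] [Algebra A B]
    (eA : A ≃+* O.obj (op X)) (eB : B ≃+* O.obj (op X'))
    (hcomm : ∀ a, eB (algebraMap A B a) = O.map q.op (eA a))
    [Module A (M.obj (op X))] [Module B (M.obj (op X'))] [Module A (M.obj (op X'))]
    [IsScalarTower A B (M.obj (op X'))]
    (hA : ∀ (a : A) (m : M.obj (op X)), a • m = eA a • m)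
    (hB : ∀ (b : B) (m : M.obj (op X')), b • m = eB b • m)
    (ρ : M.obj (op X) →ₗ[A] M.obj (op X')) (hρ : ∀ m, ρ m = resG O M q m) :
    IsBaseChange B ρ := by
  letI modP : Module (O.obj (op X')) (B ⊗[A] (M.obj (op X))) :=
    Module.compHom _ (eB.symm : O.obj (op X') →+* B)
  have hP : ∀ (c : O.obj (op X')) (t : B ⊗[A] (M.obj (op X))), c • t = eB.symm c • t :=
    fun _ _ => rfl
  let ψ₀ : M.obj (op X) →+ B ⊗[A] (M.obj (op X)) :=
    (TensorProduct.mk A B (M.obj (op X)) 1).toAddMonoidHom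
  have hsemi : ∀ (a : O.obj (op X)) (s : M.obj (op X)), ψ₀ (a • s) = O.map q.op a • ψ₀ s := by
    intro a s
    obtain ⟨a₀, rfl⟩ := eA.surjective a
    rw [← hA, hP, ← hcomm, RingEquiv.symm_apply_apply]
    change (1 : B) ⊗ₜ[A] (a₀ • s) = algebraMap A B a₀ • ((1 : B) ⊗ₜ[A] s)
    rw [← TensorProduct.smul_tmul, TensorProduct.smul_tmul', smul_eq_mul, mul_one,
      Algebra.smul_def, mul_one]
  obtain ⟨ψ', hψ', -⟩ := hq _ ψ₀ hsemi
  let θ : B ⊗[A] (M.obj (op X)) →ₗ[B] M.obj (op X') := ρ.liftBaseChange B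
  have hsemi2 : ∀ (a : O.obj (op X)) (s : M.obj (op X)),
      (resG O M q) (a • s) = O.map q.op a • (resG O M q) s := fun a s => resG_smul O M q a s
  obtain ⟨φ, -, hφuniq⟩ := hq _ (resG O M q) hsemi2
  let θψ : M.obj (op X') →ₗ[O.obj (op X')] M.obj (op X') :=
    { toFun := fun m => θ (ψ' m)
      map_add' := fun m m' => by rw [map_add, map_add]
      map_smul' := fun c m => by
        rw [map_smul, hP, map_smul, hB, RingEquiv.apply_symm_apply]
        rfl }
  have h1 : ∀ m, θ (ψ' m) = m := by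
    have e1 : θψ = φ := hφuniq _ (fun s => by
      change θ (ψ' (M.map q.op s)) = _
      rw [hψ']
      change θ ((1 : B) ⊗ₜ s) = _
      rw [LinearMap.liftBaseChange_tmul, one_smul, hρ])
    have e2 : LinearMap.id = φ := hφuniq _ (fun s => rfl)
    intro m
    have := congrArg (fun f => f m) (e1.trans e2.symm)
    exact this
  let ψB : M.obj (op X') →ₗ[B] B ⊗[A] (M.obj (op X)) :=
    { toFun := fun m => ψ' m
      map_add' := fun m m' => by rw [map_add]
      map_smul' := fun b m => by
        rw [hB, map_smul, hP, RingEquiv.symm_apply_apply]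
        rfl }
  have h2 : ψB ∘ₗ θ = LinearMap.id := by
    apply TensorProduct.AlgebraTensorModule.ext
    intro b m
    change ψB (θ (b ⊗ₜ m)) = b ⊗ₜ m
    rw [LinearMap.liftBaseChange_tmul, map_smul, hρ]
    have : ψB (resG O M q m) = (1 : B) ⊗ₜ m := hψ' m
    rw [this, TensorProduct.smul_tmul', smul_eq_mul, mul_one]
  have h1' : θ ∘ₗ ψB = LinearMap.id := LinearMap.ext h1
  exact IsBaseChange.of_equiv (LinearEquiv.ofLinear θ ψB h1' h2) (fun m => by
    change θ ((1 : B) ⊗ₜ m) = ρ m
    rw [LinearMap.liftBaseChange_tmul, one_smul])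

end Groth.Agent.H32.QCBC
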