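import Groth.Agent.H32.QCBC.Defs
import Groth.Prelude.Def_AlgSpModX
import Groth.Agent.H52.Charts

/-! helper32: the small étale site of a sheaf `X` over `S` with its affine objects is an
`AffSite` (flat / qc / surj parts; the fibre product part is in `EtSitePB`). -/

set_option autoImplicit false
set_option backward.isDefEq.respectTransparency false
universe u
open CategoryTheory CategoryTheory.Limits AlgebraicGeometry Opposite

namespace Groth.Agent.H32.QCBC
open AlgSp

variable {S : Scheme.{u}} {X : AlgSp.Sp S}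

theorem OEt_map_hom {E E' : EtOver X} (g : E' ⟶ E) :
    ((OEt X).obj.map g.op).hom =
      ULift.ringEquiv.symm.toRingHom.comp
        (g.hom.left.left.appTop.hom.comp ULift.ringEquiv.toRingHom) := rfl

theorem flat_OEt_map {E E' : EtOver X} (g : E' ⟶ E) (hE : IsAffine E.obj.left.left)
    (hE' : IsAffine E'.obj.left.left) : ((OEt X).obj.map g.op).hom.Flat := by
  have het : Etale g.hom.left.left := EtOver.etale_left g
  have hfl : Flat g.hom.left.left := inferInstance
  have h1 : g.hom.left.left.appTop.hom.Flat :=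
    (HasRingHomProperty.iff_of_isAffine (P := @Flat)).mp hfl
  rw [OEt_map_hom]
  exact RingHom.Flat.comp (RingHom.Flat.comp
    (RingHom.Flat.of_bijective (ULift.ringEquiv (R := Γ(E.obj.left.left, ⊤))).bijective) h1)
    (RingHom.Flat.of_bijective (ULift.ringEquiv (R := Γ(E'.obj.left.left, ⊤))).symm.bijective)

/-- a covering sieve contains a jointly surjective family. -/
theorem exists_family_of_mem_etTop {E : EtOver X} (R : Sieve E) (hR : R ∈ etTop X E) :
    ∃ (ι : Type (u + 1)) (Z : ι → EtOver X) (g : ∀ i, Z i ⟶ E), (∀ i, R (g i)) ∧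
      ∀ x : ↥E.obj.left.left, ∃ i, x ∈ Set.range (g i).hom.left.left := by
  obtain ⟨P, hP, hle⟩ :=
    (Precoverage.mem_toGrothendieck_iff_of_isStableUnderComposition (J := etPre X)).1 hR
  obtain ⟨ι, Z, g, rfl⟩ := P.exists_eq_ofArrows
  rw [ofArrows_mem_etPre_iff] at hP
  exact ⟨ι, Z, g, fun i => hle _ _ (Presieve.ofArrows.mk i), hP⟩

end Groth.Agent.H32.QCBC

namespace Groth.Agent.H32.QCBC
open AlgSp

variable {S : Scheme.{u}} {X : AlgSp.Sp S}

/-- the open subscheme `W ⊆ E` as an object of the small étale site. -/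
noncomputable def openObj (E : EtOver X) (W : E.obj.left.left.Opens) : EtOver X :=
  EtOver.mk ((yon S).map (H52.overOfHom (U := E.obj.left) W.ι) ≫ E.obj.hom)
    (H52.repWith_yon_map_comp @Etale (H52.overOfHom (U := E.obj.left) W.ι)
      (inferInstanceAs (Etale W.ι)) E.obj.hom E.property)

noncomputable def openObjι (E : EtOver X) (W : E.obj.left.left.Opens) : openObj E W ⟶ E :=
  EtOver.homMk (H52.overOfHom (U := E.obj.left) W.ι) rfl

theorem openObjι_left (E : EtOver X) (W : E.obj.left.left.Opens) :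
    (openObjι E W).hom.left.left = W.ι := rfl

theorem qc_etOver (V : EtOver X) (hV : IsAffine V.obj.left.left) (R : Sieve V)
    (hR : R ∈ etTop X V) :
    ∃ (n : ℕ) (Y : Fin n → EtOver X) (f : ∀ a, Y a ⟶ V),
      (∀ a, IsAffine (Y a).obj.left.left) ∧ (∀ a, R.arrows (f a)) ∧
        Sieve.ofArrows Y f ∈ etTop X V := by
  obtain ⟨ι, Z, g, hg, hsurj⟩ := exists_family_of_mem_etTop R hR
  have key : ∀ x : ↥V.obj.left.left, ∃ (i : ι) (W : (Z i).obj.left.left.Opens),
      IsAffineOpen W ∧ x ∈ (g i).hom.left.left '' (W : Set ↥(Z i).obj.left.left) := by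
    intro x
    obtain ⟨i, z, hz⟩ := hsurj x
    obtain ⟨W, hW, hzW, -⟩ := exists_isAffineOpen_mem_and_subset (x := z) (U := ⊤) trivial
    exact ⟨i, W, hW, z, hzW, hz⟩
  choose i W hW hx using key
  have hopen : ∀ x, IsOpen ((g (i x)).hom.left.left '' (W x : Set ↥(Z (i x)).obj.left.left)) := by
    intro x
    have : Etale (g (i x)).hom.left.left := EtOver.etale_left _
    exact (g (i x)).hom.left.left.isOpenMap _ (W x).2
  have hcompact : CompactSpace ↥V.obj.left.left := inferInstance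
  obtain ⟨t, ht⟩ := isCompact_univ.elim_finite_subcover
    (fun x => (g (i x)).hom.left.left '' (W x : Set ↥(Z (i x)).obj.left.left)) hopen
    (fun x _ => Set.mem_iUnion.2 ⟨x, hx x⟩)
  let e := t.equivFin
  refine ⟨t.card, fun a => openObj (Z (i (e.symm a).1)) (W (e.symm a).1),
    fun a => openObjι _ _ ≫ g (i (e.symm a).1), fun a => hW _, fun a => ?_, ?_⟩
  · exact R.downward_closed (hg _) _
  · apply ofArrows_mem_etTop
    intro x
    obtain ⟨y, hy⟩ := Set.mem_iUnion.1 (ht (Set.mem_univ x))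
    obtain ⟨hyt, z, hzW, hz⟩ := Set.mem_iUnion.1 hy
    refine ⟨e ⟨y, hyt⟩, ?_⟩
    have aux : ∀ y' : ↥V.obj.left.left, y' = y →
        x ∈ Set.range ((openObjι _ (W y') ≫ g (i y')).hom.left.left) := by
      rintro _ rfl
      exact ⟨⟨z, hzW⟩, hz⟩
    exact aux _ (congrArg Subtype.val (e.symm_apply_apply ⟨y, hyt⟩))

end Groth.Agent.H32.QCBC

namespace Groth.Agent.H32.QCBC
open AlgSp

variable {S : Scheme.{u}} {X : AlgSp.Sp S}

theorem surj_etOver (V : EtOver X) (hV : IsAffine V.obj.left.left) (n : ℕ)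
    (Y : Fin n → EtOver X) (f : ∀ a, Y a ⟶ V)
    (hcov : Sieve.ofArrows Y f ∈ etTop X V)
    (p : PrimeSpectrum ((OEt X).obj.obj (op V))) :
    ∃ a, p ∈ Set.range (PrimeSpectrum.comap ((OEt X).obj.map (f a).op).hom) := by
  obtain ⟨ι, Z, g, hg, hsurj⟩ := exists_family_of_mem_etTop _ hcov
  let T := V.obj.left.left
  let p₀ : PrimeSpectrum Γ(T, ⊤) :=
    PrimeSpectrum.comap (ULift.ringEquiv (R := Γ(T, ⊤))).symm.toRingHom p
  let x : ↥T := T.isoSpec.inv p₀
  have hx : T.toSpecΓ x = p₀ := by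
    change (T.isoSpec.inv ≫ T.toSpecΓ) p₀ = p₀
    rw [Scheme.isoSpec_inv_toSpecΓ]
    rfl
  obtain ⟨i, z, hz⟩ := hsurj x
  obtain ⟨a, k, hkg⟩ := (Sieve.mem_ofArrows_iff Y f (g i)).1 (hg i)
  refine ⟨a, ?_⟩
  let y : ↥(Y a).obj.left.left := k.hom.left.left z
  have hy : (f a).hom.left.left y = x := by
    rw [← hz, hkg]
    rfl
  let q₀ : PrimeSpectrum Γ((Y a).obj.left.left, ⊤) := (Y a).obj.left.left.toSpecΓ y
  have hq₀ : PrimeSpectrum.comap (f a).hom.left.left.appTop.hom q₀ = p₀ := by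
    have h1 := congrArg (fun m => m y) (Scheme.toSpecΓ_naturality (f a).hom.left.left)
    simp only [Scheme.Hom.comp_apply] at h1
    rw [hy, hx] at h1
    exact h1.symm
  refine ⟨PrimeSpectrum.comap (ULift.ringEquiv (R := Γ((Y a).obj.left.left, ⊤))).toRingHom q₀, ?_⟩
  rw [OEt_map_hom, PrimeSpectrum.comap_comp_apply, PrimeSpectrum.comap_comp_apply]
  have h2 : PrimeSpectrum.comap (ULift.ringEquiv (R := Γ((Y a).obj.left.left, ⊤))).symm.toRingHom
      (PrimeSpectrum.comap (ULift.ringEquiv (R := Γ((Y a).obj.left.left, ⊤))).toRingHom q₀) =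
      q₀ := by
    apply PrimeSpectrum.ext
    ext r
    simp only [PrimeSpectrum.comap_asIdeal, Ideal.mem_comap]
    rfl
  rw [h2, hq₀]
  apply PrimeSpectrum.ext
  ext r
  simp only [p₀, PrimeSpectrum.comap_asIdeal, Ideal.mem_comap]
  rfl

end Groth.Agent.H32.QCBC
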