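import Groth.Agent.H32.QCBC.SheafLemmas
import Groth.Agent.H51.QCBC_ALG2

/-! helper32: base change property for a module with an elementary presentation over `W`,
on affine objects over `W`. -/

set_option autoImplicit false
universe v₁ u₁
open CategoryTheory Opposite Limits

namespace Groth.Agent.H32.QCBC

open Groth.Agent.H51.QCBC_ALG1 Groth.Agent.H51.QCBC_ALG2

variable {C : Type u₁} [Category.{v₁} C] {J : GrothendieckTopology C}
  {O : Cᵒᵖ ⥤ CommRingCat.{max v₁ u₁}}
  {M : PresheafOfModules.{max v₁ u₁} (O ⋙ forget₂ CommRingCat RingCat)} {Aff : C → Prop}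

section
variable (h : AffSite J O Aff) (hO : Presheaf.IsSheaf J O) {W : C} (P : ElemPres O M J W)

include h hO in
theorem finite_support {V : C} (v : V ⟶ W) (hV : Aff V) (k : P.K) :
    {i | O.map v.op (P.a k i) ≠ 0}.Finite := by
  obtain ⟨S, hS, hfin⟩ := P.lf k
  obtain ⟨n, Y, f, hY, hf, hcov⟩ := h.qc V hV _ (J.pullback_stable v hS)
  have hfin' : ∀ a : Fin n, {i | O.map (f a ≫ v).op (P.a k i) ≠ 0}.Finite :=
    fun a => hfin (f a ≫ v) (hf a)
  refine (Set.finite_iUnion hfin').subset ?_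
  intro i hi
  by_contra hcon
  simp only [Set.mem_iUnion, Set.mem_setOf_eq, not_exists, not_not] at hcon
  apply hi
  refine O_sep O hO _ hcov _ _ ?_
  intro V' g hg
  obtain ⟨a, l, rfl⟩ := (Sieve.mem_ofArrows_iff Y f g).1 hg
  rw [O_map_comp, ← O_map_comp O v (f a), hcon a, map_zero, map_zero]

/-- the relation vectors over an affine object over `W`. -/
noncomputable def relV {V : C} (v : V ⟶ W) (hV : Aff V) (k : P.K) : P.I →₀ O.obj (op V) :=
  Finsupp.ofSupportFinite (fun i => O.map v.op (P.a k i)) (finite_support h hO P v hV k)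

theorem relV_apply {V : C} (v : V ⟶ W) (hV : Aff V) (k : P.K) (i : P.I) :
    relV h hO P v hV k i = O.map v.op (P.a k i) := rfl

theorem bc_relV {V V' : C} (v : V ⟶ W) (hV : Aff V) (g : V' ⟶ V) (hV' : Aff V') (k : P.K) :
    bc (O.map g.op).hom (relV h hO P v hV k) = relV h hO P (g ≫ v) hV' k := by
  ext i
  simp only [bc, Finsupp.mapRange_apply, relV_apply]
  exact (O_map_comp O v g _).symm

end

section
variable {W : C} (P : ElemPres O M J W)

/-- evaluation of a coefficient vector on the generators restricted to `V`. -/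
noncomputable def ev {V : C} (v : V ⟶ W) :
    (P.I →₀ O.obj (op V)) →ₗ[O.obj (op V)] M.obj (op V) :=
  Finsupp.linearCombination (O.obj (op V)) (fun i => res O M v (P.s i))

theorem ev_apply {V : C} (v : V ⟶ W) (c : P.I →₀ O.obj (op V)) :
    ev P v c = c.sum fun i r => r • res O M v (P.s i) :=
  Finsupp.linearCombination_apply _ _

theorem ev_single {V : C} (v : V ⟶ W) (i : P.I) (r : O.obj (op V)) :
    ev P v (Finsupp.single i r) = r • res O M v (P.s i) := by
  rw [ev, Finsupp.linearCombination_single]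

theorem map_ev {V V' : C} (v : V ⟶ W) (g : V' ⟶ V) (c : P.I →₀ O.obj (op V)) :
    res O M g (ev P v c) = ev P (g ≫ v) (bc (O.map g.op).hom c) := by
  induction c using Finsupp.induction_linear with
  | zero =>
    simp only [bc, Finsupp.mapRange_zero, map_zero]
  | add c₁ c₂ h₁ h₂ =>
    have hadd : bc (O.map g.op).hom (c₁ + c₂) = bc (O.map g.op).hom c₁ + bc (O.map g.op).hom c₂ :=
      Finsupp.mapRange_add (fun _ _ => map_add _ _ _) c₁ c₂
    rw [hadd, map_add, map_add, map_add, h₁, h₂]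
  | single i r =>
    have hs : bc (O.map g.op).hom (Finsupp.single i r) = Finsupp.single i (O.map g.op r) :=
      Finsupp.mapRange_single
    rw [hs, ev_single, ev_single, res_smul, res_comp]

end

section
variable (h : AffSite J O Aff) (hO : Presheaf.IsSheaf J O) {W : C} (P : ElemPres O M J W)

theorem ev_relV {V : C} (v : V ⟶ W) (hV : Aff V) (k : P.K) :
    ev P v (relV h hO P v hV k) = 0 := by
  rw [ev_apply, Finsupp.sum]
  exact P.rel k v (finite_support h hO P v hV k)

/-- the submodule of relations generated by the given ones. -/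
noncomputable def KV {V : C} (v : V ⟶ W) (hV : Aff V) : Submodule (O.obj (op V)) (P.I →₀ O.obj (op V)) :=
  Submodule.span _ (Set.range (relV h hO P v hV))

theorem KV_le_ker {V : C} (v : V ⟶ W) (hV : Aff V) :
    KV h hO P v hV ≤ LinearMap.ker (ev P v) := by
  rw [KV, Submodule.span_le]
  rintro _ ⟨k, rfl⟩
  exact ev_relV h hO P v hV k

theorem ker_le_KV {V : C} (v : V ⟶ W) (hV : Aff V) :
    LinearMap.ker (ev P v) ≤ KV h hO P v hV := by
  intro c hc
  rw [LinearMap.mem_ker, ev_apply] at hc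
  obtain ⟨S, hS, hrel⟩ := P.relgen v c hc
  obtain ⟨n, Y, f, hY, hf, hcov⟩ := h.qc V hV S hS
  letI : ∀ a, Algebra (O.obj (op V)) (O.obj (op (Y a))) := fun a => (O.map (f a).op).hom.toAlgebra
  haveI : ∀ a, Module.Flat (O.obj (op V)) (O.obj (op (Y a))) := fun a => h.flat (f a) hV (hY a)
  refine mem_of_forall_mem_span (fun a => O.obj (op (Y a))) (h.surj V hV n Y f hY hcov)
    (KV h hO P v hV) c ?_
  intro a
  obtain ⟨d, hd⟩ := hrel (f a) (hf a)
  have hc' : bc (algebraMap (O.obj (op V)) (O.obj (op (Y a)))) c =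
      d.sum fun k r => r • bc (algebraMap (O.obj (op V)) (O.obj (op (Y a))))
        (relV h hO P v hV k) := by
    ext i
    rw [Finsupp.sum_apply]
    simp only [bc, Finsupp.mapRange_apply, Finsupp.smul_apply, relV_apply, smul_eq_mul]
    rw [RingHom.algebraMap_toAlgebra]
    refine (hd i).trans ?_
    refine Finsupp.sum_congr (fun k _ => ?_)
    rw [O_map_comp]
  rw [hc']
  refine Submodule.sum_mem _ (fun k _ => Submodule.smul_mem _ _ (Submodule.subset_span ?_))
  exact ⟨relV h hO P v hV k, Submodule.subset_span ⟨k, rfl⟩, rfl⟩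

theorem bc_mem_ker {V V' : C} (v : V ⟶ W) (g : V' ⟶ V) (x : P.I →₀ O.obj (op V))
    (hx : x ∈ LinearMap.ker (ev P v)) :
    bc (O.map g.op).hom x ∈ LinearMap.ker (ev P (g ≫ v)) := by
  rw [LinearMap.mem_ker] at hx ⊢
  rw [← map_ev, hx, map_zero]

theorem KV_le_span_bc {V V' : C} (v : V ⟶ W) (hV : Aff V) (g : V' ⟶ V) (hV' : Aff V') :
    KV h hO P (g ≫ v) hV' ≤
      Submodule.span (O.obj (op V')) (bc (O.map g.op).hom '' (KV h hO P v hV : Set _)) := by
  rw [KV, Submodule.span_le]
  rintro _ ⟨k, rfl⟩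
  rw [← bc_relV h hO P v hV g hV' k]
  exact Submodule.subset_span ⟨_, Submodule.subset_span ⟨k, rfl⟩, rfl⟩

theorem span_bc_le_ker {V V' : C} (v : V ⟶ W) (hV : Aff V) (g : V' ⟶ V) :
    Submodule.span (O.obj (op V')) (bc (O.map g.op).hom '' (KV h hO P v hV : Set _)) ≤
      LinearMap.ker (ev P (g ≫ v)) := by
  rw [Submodule.span_le]
  rintro _ ⟨x, hx, rfl⟩
  exact bc_mem_ker P v g x (KV_le_ker h hO P v hV hx)

include h hO in
theorem ev_surjective (hM : Presheaf.IsSheaf J M.presheaf) {V : C} (v : V ⟶ W) (hV : Aff V) :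
    Function.Surjective (ev P v) := by
  intro t
  obtain ⟨S, hS, hgen⟩ := P.gen v t
  obtain ⟨n, Y, f, hY, hf, hcov⟩ := h.qc V hV S hS
  choose c hc using fun a => hgen (f a) (hf a)
  have hc' : ∀ a, res O M (f a) t = ev P (f a ≫ v) (c a) :=
    fun a => (hc a).trans (ev_apply P (f a ≫ v) (c a)).symm
  choose Z p₁ p₂ hZ hpb hpo using fun a b => h.pb (f a) (f b) hV (hY a) (hY b)
  letI : ∀ a, Algebra (O.obj (op V)) (O.obj (op (Y a))) := fun a => (O.map (f a).op).hom.toAlgebra
  haveI : ∀ a, Module.Flat (O.obj (op V)) (O.obj (op (Y a))) := fun a => h.flat (f a) hV (hY a)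
  have hcomp : ∀ a b, bc (O.map (p₁ a b).op).hom (c a) - bc (O.map (p₂ a b).op).hom (c b) ∈
      Submodule.span (O.obj (op (Z a b)))
        (bc ((O.map (p₁ a b).op).hom.comp (algebraMap (O.obj (op V)) (O.obj (op (Y a))))) ''
          (KV h hO P v hV : Set (P.I →₀ O.obj (op V)))) := by
    intro a b
    have hw : p₁ a b ≫ f a = p₂ a b ≫ f b := (hpb a b).w
    have hker : bc (O.map (p₁ a b).op).hom (c a) - bc (O.map (p₂ a b).op).hom (c b) ∈
        LinearMap.ker (ev P ((p₁ a b ≫ f a) ≫ v)) := by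
      rw [LinearMap.mem_ker, map_sub, sub_eq_zero]
      have e1 : ev P ((p₁ a b ≫ f a) ≫ v) (bc (O.map (p₁ a b).op).hom (c a)) =
          res O M (p₁ a b ≫ f a) t := by
        rw [Category.assoc, ← map_ev, ← hc', ← res_comp]
      have e2 : ev P ((p₁ a b ≫ f a) ≫ v) (bc (O.map (p₂ a b).op).hom (c b)) =
          res O M (p₁ a b ≫ f a) t := by
        rw [hw, Category.assoc, ← map_ev, ← hc', ← res_comp]
      rw [e1, e2]
    have h1 := ker_le_KV h hO P ((p₁ a b ≫ f a) ≫ v) (hZ a b) hker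
    have h2 := KV_le_span_bc h hO P v hV (p₁ a b ≫ f a) (hZ a b) h1
    have h3 : (O.map (p₁ a b).op).hom.comp (algebraMap (O.obj (op V)) (O.obj (op (Y a)))) =
        (O.map (p₁ a b ≫ f a).op).hom := by
      rw [RingHom.algebraMap_toAlgebra, op_comp, O.map_comp]
      rfl
    rw [h3]
    exact h2
  obtain ⟨c₀, hc₀⟩ := exists_glue (fun a => O.obj (op (Y a))) (h.surj V hV n Y f hY hcov)
    (fun a b => O.obj (op (Z a b))) (fun a b => (O.map (p₁ a b).op).hom)
    (fun a b => (O.map (p₂ a b).op).hom) (fun a b => hpo a b) (KV h hO P v hV) c hcomp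
  refine ⟨c₀, ?_⟩
  refine M_sep O M hM _ hcov _ _ ?_
  intro V' g hg
  obtain ⟨a, l, rfl⟩ := (Sieve.mem_ofArrows_iff Y f g).1 hg
  change res O M (l ≫ f a) (ev P v c₀) = res O M (l ≫ f a) t
  rw [res_comp, res_comp, hc', map_ev]
  congr 1
  have h4 := span_bc_le_ker h hO P v hV (f a) (hc₀ a)
  rw [LinearMap.mem_ker, map_sub, sub_eq_zero] at h4
  exact h4

include h hO P in
/-- (B) the base change property on affine objects over an object with an elementary
presentation. -/
theorem isBC_of_elemPres (hM : Presheaf.IsSheaf J M.presheaf) {V V' : C} (v : V ⟶ W)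
    (g : V' ⟶ V) (hV : Aff V) (hV' : Aff V') : IsBC O M g := by
  intro Q _ _ ψ hψ
  let Ψ : (P.I →₀ O.obj (op V')) →ₗ[O.obj (op V')] Q :=
    Finsupp.linearCombination _ (fun i => ψ (res O M v (P.s i)))
  have hΨ : ∀ c : P.I →₀ O.obj (op V), Ψ (bc (O.map g.op).hom c) = ψ (ev P v c) := by
    intro c
    induction c using Finsupp.induction_linear with
    | zero => simp only [bc, Finsupp.mapRange_zero, map_zero]
    | add c₁ c₂ h₁ h₂ =>
      have hadd : bc (O.map g.op).hom (c₁ + c₂) =
          bc (O.map g.op).hom c₁ + bc (O.map g.op).hom c₂ :=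
        Finsupp.mapRange_add (fun _ _ => map_add _ _ _) c₁ c₂
      rw [hadd, map_add, map_add, map_add, h₁, h₂]
    | single i r =>
      have hs : bc (O.map g.op).hom (Finsupp.single i r) = Finsupp.single i (O.map g.op r) :=
        Finsupp.mapRange_single
      rw [hs, Finsupp.linearCombination_single, ev_single, hψ]
  have hker : LinearMap.ker (ev P (g ≫ v)) ≤ LinearMap.ker Ψ := by
    refine (ker_le_KV h hO P (g ≫ v) hV').trans ?_
    rw [KV, Submodule.span_le]
    rintro _ ⟨k, rfl⟩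
    rw [SetLike.mem_coe, LinearMap.mem_ker, ← bc_relV h hO P v hV g hV' k, hΨ, ev_relV, map_zero]
  have hsurj := ev_surjective h hO P hM (g ≫ v) hV'
  let e := LinearMap.quotKerEquivOfSurjective (ev P (g ≫ v)) hsurj
  let ψ' : M.obj (op V') →ₗ[O.obj (op V')] Q :=
    ((LinearMap.ker (ev P (g ≫ v))).liftQ Ψ hker).comp e.symm.toLinearMap
  have hψ' : ∀ c, ψ' (ev P (g ≫ v) c) = Ψ c := by
    intro c
    have h1 : e.symm (ev P (g ≫ v) c) = Submodule.Quotient.mk c := by
      rw [LinearEquiv.symm_apply_eq]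
      rfl
    change ((LinearMap.ker (ev P (g ≫ v))).liftQ Ψ hker) (e.symm (ev P (g ≫ v) c)) = Ψ c
    rw [h1, Submodule.liftQ_apply]
  refine ⟨ψ', ?_, ?_⟩
  · intro s
    obtain ⟨c, rfl⟩ := ev_surjective h hO P hM v hV s
    change ψ' (res O M g (ev P v c)) = _
    rw [map_ev, hψ', hΨ]
  · intro ψ'' hψ''
    apply LinearMap.ext
    intro m
    obtain ⟨c, rfl⟩ := hsurj m
    rw [hψ']
    induction c using Finsupp.induction_linear with
    | zero => simp only [map_zero]
    | add c₁ c₂ h₁ h₂ => rw [map_add, map_add, map_add, h₁, h₂]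
    | single i r =>
      rw [ev_single, Finsupp.linearCombination_single, map_smul, res_comp]
      congr 1
      exact hψ'' _

end

end Groth.Agent.H32.QCBC
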