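import Groth.Agent.H32.QCBC.Local
import Groth.Agent.H32.QCBC.Global
import Groth.Agent.H32.QCBC.EtSiteMain
import Groth.Agent.H96.QCBC_A

/-! helper32: the base change property `M(E') = O(E') ⊗_{O(E)} M(E)` of quasi-coherent modules
on affine objects: abstract form and the small étale site of a sheaf `X` over `S`. -/

set_option autoImplicit false
universe v₁ u₁ w
open CategoryTheory Opposite Limits

namespace Groth.Agent.H32.QCBC

section Main
variable {C : Type u₁} [Category.{v₁} C] {J : GrothendieckTopology C}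
  (O : Sheaf J CommRingCat.{max v₁ u₁})
  [J.HasSheafCompose (forget₂ CommRingCat.{max v₁ u₁} RingCat.{max v₁ u₁})]
  [∀ X, HasWeakSheafify (J.over X) AddCommGrpCat.{max v₁ u₁}]
  [∀ X, (J.over X).WEqualsLocallyBijective AddCommGrpCat.{max v₁ u₁}]
  {Aff : C → Prop}

theorem isBC_of_isQuasicoherent (h : AffSite J O.obj Aff)
    (M : SheafOfModules.{max v₁ u₁}
      ((sheafCompose J (forget₂ CommRingCat.{max v₁ u₁} RingCat.{max v₁ u₁})).obj O))
    [M.IsQuasicoherent] {E E' : C} (g : E' ⟶ E) (hE : Aff E) (hE' : Aff E') :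
    IsBC O.obj M.val g := by
  obtain ⟨⟨q⟩⟩ := (inferInstance : M.IsQuasicoherent)
  have hMsh : Presheaf.IsSheaf J M.val.presheaf := M.isSheaf
  obtain ⟨n, Y, f, hY, hS, hcov⟩ := h.qc E hE _ (q.coversTop E)
  refine isBC_of_cover h hMsh g hE hE' Y f hY hcov ?_
  intro a V V' v g' hV hV'
  obtain ⟨i, ⟨w⟩⟩ := hS a
  obtain ⟨P⟩ := Groth.Agent.H96.QCBC_A.nonempty_elemPres O M (q.X i) (q.presentation i)
  exact isBC_of_elemPres h O.property P hMsh (v ≫ w) g' hV hV'
end Main

open AlgebraicGeometry

/-- **Base change property of quasi-coherent modules on the small étale site**: for a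
quasi-coherent `O_X`-module `M` and a morphism `g : E' ⟶ E` between affine objects of the small
étale site of `X`, the restriction `M(E) ⟶ M(E')` is the base change of `M(E)` along
`O(E) ⟶ O(E')` (universal property form). -/
theorem isBC_modEt {S : Scheme.{w}} (X : AlgSp.Sp S) (M : AlgSp.ModEt X) [M.IsQuasicoherent]
    {E E' : AlgSp.EtOver X} (g : E' ⟶ E) (hE : IsAffine E.obj.left.left)
    (hE' : IsAffine E'.obj.left.left) : IsBC (AlgSp.OEt X).obj M.val g :=
  isBC_of_isQuasicoherent (AlgSp.OEt X) (affSite_etOver X) M g hE hE'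

end Groth.Agent.H32.QCBC
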