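import Groth.Agent.H32.QCBC.Defs

/-! helper32: separatedness and gluing for the sheaf of rings and a sheaf of modules, in
elementary form. -/

set_option autoImplicit false
universe v₁ u₁
open CategoryTheory Opposite Limits

namespace Groth.Agent.H32.QCBC

variable {C : Type u₁} [Category.{v₁} C] {J : GrothendieckTopology C}
  (O : Cᵒᵖ ⥤ CommRingCat.{max v₁ u₁})
  (M : PresheafOfModules.{max v₁ u₁} (O ⋙ forget₂ CommRingCat RingCat))

theorem O_sep (hO : Presheaf.IsSheaf J O) {V : C} (S : Sieve V) (hS : S ∈ J V)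
    (r r' : O.obj (op V))
    (h : ∀ ⦃V' : C⦄ (f : V' ⟶ V), S f → O.map f.op r = O.map f.op r') : r = r' := by
  have h1 : Presieve.IsSheaf J (O ⋙ forget CommRingCat.{max v₁ u₁}) :=
    (isSheaf_iff_isSheaf_of_type _ _).1
      ((Presheaf.isSheaf_iff_isSheaf_forget J O (forget CommRingCat.{max v₁ u₁})).1 hO)
  exact ((h1.isSeparated _ hS).ext (fun V' f hf => h f hf) :
    (r : (O ⋙ forget _).obj (op V)) = r')

theorem M_sep (hM : Presheaf.IsSheaf J M.presheaf) {V : C} (S : Sieve V) (hS : S ∈ J V)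
    (t t' : M.obj (op V))
    (h : ∀ ⦃V' : C⦄ (f : V' ⟶ V), S f → M.map f.op t = M.map f.op t') : t = t' := by
  have h1 : Presieve.IsSheaf J (M.presheaf ⋙ forget AddCommGrpCat.{max v₁ u₁}) :=
    (isSheaf_iff_isSheaf_of_type _ _).1
      ((Presheaf.isSheaf_iff_isSheaf_forget J M.presheaf (forget AddCommGrpCat.{max v₁ u₁})).1 hM)
  exact ((h1.isSeparated _ hS).ext (fun V' f hf => h f hf) :
    (t : (M.presheaf ⋙ forget _).obj (op V)) = t')

theorem M_map_comp {V V' V'' : C} (f : V' ⟶ V) (g : V'' ⟶ V') (t : M.obj (op V)) :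
    (M.map (g ≫ f).op t : M.obj (op V'')) = M.map g.op (M.map f.op t : M.obj (op V')) := by
  rw [op_comp, PresheafOfModules.map_comp]
  rfl

theorem O_map_comp {V V' V'' : C} (f : V' ⟶ V) (g : V'' ⟶ V') (r : O.obj (op V)) :
    O.map (g ≫ f).op r = O.map g.op (O.map f.op r) := by
  rw [op_comp, O.map_comp]
  rfl

/-- restriction as an additive map between the honest section modules. -/
noncomputable def res {V V' : C} (g : V' ⟶ V) : M.obj (op V) →+ M.obj (op V') where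
  toFun t := M.map g.op t
  map_zero' := (M.map g.op).hom.map_zero
  map_add' := (M.map g.op).hom.map_add

theorem res_apply {V V' : C} (g : V' ⟶ V) (t : M.obj (op V)) : res O M g t = M.map g.op t := rfl

theorem res_smul {V V' : C} (g : V' ⟶ V) (r : O.obj (op V)) (t : M.obj (op V)) :
    res O M g (r • t) = O.map g.op r • res O M g t :=
  PresheafOfModules.map_smul M g.op r t

theorem res_comp {V V' V'' : C} (f : V' ⟶ V) (g : V'' ⟶ V') (t : M.obj (op V)) :
    res O M (g ≫ f) t = res O M g (res O M f t) := M_map_comp O M f g t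

/-- gluing along a finite family with given fibre products. -/
theorem M_glue (hM : Presheaf.IsSheaf J M.presheaf) {V : C} {n : ℕ} (Y : Fin n → C)
    (f : ∀ a, Y a ⟶ V) (hcov : Sieve.ofArrows Y f ∈ J V)
    (Z : Fin n → Fin n → C) (p₁ : ∀ a b, Z a b ⟶ Y a) (p₂ : ∀ a b, Z a b ⟶ Y b)
    (hpb : ∀ a b, IsPullback (p₁ a b) (p₂ a b) (f a) (f b))
    (t : ∀ a, M.obj (op (Y a)))
    (ht : ∀ a b, (M.map (p₁ a b).op (t a) : M.obj (op (Z a b))) = M.map (p₂ a b).op (t b)) :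
    ∃ t₀ : M.obj (op V), ∀ a, (M.map (f a).op t₀ : M.obj (op (Y a))) = t a := by
  have h1 : Presieve.IsSheaf J (M.presheaf ⋙ forget AddCommGrpCat.{max v₁ u₁}) :=
    (isSheaf_iff_isSheaf_of_type _ _).1
      ((Presheaf.isSheaf_iff_isSheaf_forget J M.presheaf (forget AddCommGrpCat.{max v₁ u₁})).1 hM)
  have h2 : Presieve.IsSheafFor (M.presheaf ⋙ forget AddCommGrpCat.{max v₁ u₁})
      (Presieve.ofArrows Y f) := by
    rw [Presieve.isSheafFor_iff_generate]
    exact h1 _ hcov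
  rw [Presieve.isSheafFor_arrows_iff] at h2
  have hcomp : Presieve.Arrows.Compatible (M.presheaf ⋙ forget AddCommGrpCat.{max v₁ u₁}) f
      (fun a => (t a : (M.presheaf ⋙ forget _).obj (op (Y a)))) := by
    intro a b T ga gb hab
    let l := (hpb a b).lift ga gb hab
    have hl1 : l ≫ p₁ a b = ga := (hpb a b).lift_fst _ _ _
    have hl2 : l ≫ p₂ a b = gb := (hpb a b).lift_snd _ _ _
    change (M.map ga.op (t a) : M.obj (op T)) = M.map gb.op (t b)
    rw [← hl1, ← hl2, M_map_comp, M_map_comp, ht a b]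
  obtain ⟨t₀, ht₀, -⟩ := h2 _ hcomp
  exact ⟨t₀, fun a => ht₀ a⟩

/-- gluing along a finite family with given weak fibre products. -/
theorem M_glue' (hM : Presheaf.IsSheaf J M.presheaf) {V : C} {n : ℕ} (Y : Fin n → C)
    (f : ∀ a, Y a ⟶ V) (hcov : Sieve.ofArrows Y f ∈ J V)
    (Z : Fin n → Fin n → C) (p₁ : ∀ a b, Z a b ⟶ Y a) (p₂ : ∀ a b, Z a b ⟶ Y b)
    (hlift : ∀ (a b : Fin n) (T : C) (ga : T ⟶ Y a) (gb : T ⟶ Y b), ga ≫ f a = gb ≫ f b →
      ∃ l : T ⟶ Z a b, l ≫ p₁ a b = ga ∧ l ≫ p₂ a b = gb)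
    (t : ∀ a, M.obj (op (Y a)))
    (ht : ∀ a b, res O M (p₁ a b) (t a) = res O M (p₂ a b) (t b)) :
    ∃ t₀ : M.obj (op V), ∀ a, res O M (f a) t₀ = t a := by
  have h1 : Presieve.IsSheaf J (M.presheaf ⋙ forget AddCommGrpCat.{max v₁ u₁}) :=
    (isSheaf_iff_isSheaf_of_type _ _).1
      ((Presheaf.isSheaf_iff_isSheaf_forget J M.presheaf (forget AddCommGrpCat.{max v₁ u₁})).1 hM)
  have h2 : Presieve.IsSheafFor (M.presheaf ⋙ forget AddCommGrpCat.{max v₁ u₁})
      (Presieve.ofArrows Y f) := by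
    rw [Presieve.isSheafFor_iff_generate]
    exact h1 _ hcov
  rw [Presieve.isSheafFor_arrows_iff] at h2
  have hcomp : Presieve.Arrows.Compatible (M.presheaf ⋙ forget AddCommGrpCat.{max v₁ u₁}) f
      (fun a => (t a : (M.presheaf ⋙ forget _).obj (op (Y a)))) := by
    intro a b T ga gb hab
    obtain ⟨l, hl1, hl2⟩ := hlift a b T ga gb hab
    change res O M ga (t a) = res O M gb (t b)
    rw [← hl1, ← hl2, res_comp, res_comp, ht a b]
  obtain ⟨t₀, ht₀, -⟩ := h2 _ hcomp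
  exact ⟨t₀, fun a => ht₀ a⟩

theorem ofArrows_pullback_mem {E F : C} (g : F ⟶ E) {n : ℕ} (Y : Fin n → C) (f : ∀ a, Y a ⟶ E)
    (hcov : Sieve.ofArrows Y f ∈ J E) (Fa : Fin n → C) (qa : ∀ a, Fa a ⟶ Y a)
    (ra : ∀ a, Fa a ⟶ F) (hpb : ∀ a, IsPullback (qa a) (ra a) (f a) g) :
    Sieve.ofArrows Fa ra ∈ J F := by
  refine J.superset_covering ?_ (J.pullback_stable g hcov)
  intro T k hk
  obtain ⟨a, l, hl⟩ := (Sieve.mem_ofArrows_iff Y f (k ≫ g)).1 hk
  exact (Sieve.mem_ofArrows_iff Fa ra k).2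
    ⟨a, (hpb a).lift l k hl.symm, ((hpb a).lift_snd _ _ _).symm⟩

end Groth.Agent.H32.QCBC
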