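import Groth.Agent.H32.QCBC.Main
import Groth.Agent.H32.QCBC.BCConv2
import Groth.Agent.Lead.WeakAssEtale
import Groth.Agent.H25.WeakAssPush

/-! helper32: weak associatedness on affine étale charts is independent of the chart
(for quasi-coherent modules), along morphisms of charts. -/

set_option autoImplicit false
set_option backward.isDefEq.respectTransparency false
universe u
open CategoryTheory Opposite Limits TensorProduct AlgebraicGeometry AlgSp

namespace Groth.Agent.H32.QCBC

variable {S : Scheme.{u}} {X : AlgSp.Sp S} (M : AlgSp.ModEt X)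

/-- the `Γ(E)`-module structure on `M(E)`. -/
@[reducible] noncomputable def modΓ (E : EtOver X) : Module Γ(E.obj.left.left, ⊤) (sectModEt M E) :=
  Module.compHom _ (upΓ E)

theorem annSect_eq {E : EtOver X} (s : sectModEt M E) :
    letI := modΓ M E
    annSect s = (Submodule.span Γ(E.obj.left.left, ⊤) ({s} : Set (sectModEt M E))).annihilator := by
  letI := modΓ M E
  ext a
  rw [mem_annSect_iff, Submodule.mem_annihilator_span_singleton]
  rfl

theorem isWeakAssOn_iff (E : EtOver X) [IsAffine E.obj.left.left] (u : E.obj.left.left) :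
    letI := modΓ M E
    IsWeakAssOn M E u ↔
      primeAtPt E.obj.left.left u ∈ FlatCA.weakAss Γ(E.obj.left.left, ⊤) (sectModEt M E) := by
  letI := modΓ M E
  unfold IsWeakAssOn FlatCA.weakAss
  simp only [annSect_eq M, Set.mem_setOf_eq]


theorem OEt_map_upΓ {E E' : EtOver X} (g : E' ⟶ E) (a : Γ(E.obj.left.left, ⊤)) :
    (OEt X).obj.map g.op (upΓ E a) = upΓ E' (g.hom.left.left.appTop.hom a) := rfl

set_option maxHeartbeats 800000 in
theorem isWeakAssOn_iff_of_hom [M.IsQuasicoherent] {E E' : EtOver X} (g : E' ⟶ E)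
    [hE : IsAffine E.obj.left.left] [hE' : IsAffine E'.obj.left.left] (u' : E'.obj.left.left) :
    IsWeakAssOn M E' u' ↔ IsWeakAssOn M E (g.hom.left.left u') := by
  rw [isWeakAssOn_iff, isWeakAssOn_iff]
  letI := modΓ M E
  letI := modΓ M E'
  letI alg : Algebra Γ(E.obj.left.left, ⊤) Γ(E'.obj.left.left, ⊤) :=
    g.hom.left.left.appTop.hom.toAlgebra
  have het : Etale g.hom.left.left := EtOver.etale_left g
  have hetR : g.hom.left.left.appTop.hom.Etale :=
    (HasRingHomProperty.iff_of_isAffine (P := @Etale)).mp het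
  haveI : Algebra.Etale Γ(E.obj.left.left, ⊤) Γ(E'.obj.left.left, ⊤) := hetR
  letI modA' : Module Γ(E.obj.left.left, ⊤) (sectModEt M E') :=
    Module.compHom _ (algebraMap Γ(E.obj.left.left, ⊤) Γ(E'.obj.left.left, ⊤))
  haveI : IsScalarTower Γ(E.obj.left.left, ⊤) Γ(E'.obj.left.left, ⊤) (sectModEt M E') :=
    ⟨fun a b m => by
      change (a • b) • m = algebraMap Γ(E.obj.left.left, ⊤) Γ(E'.obj.left.left, ⊤) a • (b • m)
      rw [Algebra.smul_def, mul_smul]⟩
  have hBC := isBC_modEt X M g hE hE'
  let ρ : sectModEt M E →ₗ[Γ(E.obj.left.left, ⊤)] sectModEt M E' :=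
    { toFun := fun m => resG (OEt X).obj M.val g m
      map_add' := fun m m' => map_add _ m m'
      map_smul' := fun a m => by
        change resG (OEt X).obj M.val g (upΓ E a • m) = _
        rw [resG_smul, OEt_map_upΓ]
        rfl }
  have hρ : IsBaseChange Γ(E'.obj.left.left, ⊤) ρ :=
    isBaseChange_of_isBC_equiv.{u, u + 1, u + 1, u} (O := (OEt X).obj) (M := M.val) g hBC
      (ULift.ringEquiv (R := Γ(E.obj.left.left, ⊤))).symm
      (ULift.ringEquiv (R := Γ(E'.obj.left.left, ⊤))).symm
      (fun a => rfl) (fun a m => rfl) (fun b m => rfl) ρ (fun m => rfl)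
  have hpr : (primeAtPt E'.obj.left.left u').comap
      (algebraMap Γ(E.obj.left.left, ⊤) Γ(E'.obj.left.left, ⊤)) =
      primeAtPt E.obj.left.left (g.hom.left.left u') :=
    Groth.Agent.H25.WeakAssPush.primeAtPt_comap g.hom.left.left u'
  constructor
  · intro h
    rw [← hpr]
    exact Groth.Agent.Lead.WeakAssEtale.comap_mem_weakAss_of_etale ρ hρ _ h
  · intro h
    haveI : (primeAtPt E'.obj.left.left u').LiesOver
        (primeAtPt E.obj.left.left (g.hom.left.left u')) := ⟨hpr.symm⟩
    have h2 := Groth.Agent.H9.WeakAss.mem_weakAss_tensor_of_flat_of_quasiFinite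
      (B := Γ(E'.obj.left.left, ⊤)) (sectModEt M E) (primeAtPt E.obj.left.left (g.hom.left.left u'))
      (primeAtPt E'.obj.left.left u') h
    rwa [Groth.Agent.H9.WeakAss.weakAss_congr hρ.equiv] at h2

end Groth.Agent.H32.QCBC
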